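import Groth.Agent.H14.QCCrit.Noeth
import Groth.Agent.H14.Chart.Points
import Groth.Agent.H14.IsoNat.Main

/-!
Monomorphisms of stacks with spreading lifts are quasi-compact.
-/

set_option autoImplicit false
set_option backward.isDefEq.respectTransparency false
set_option backward.isDefEq.respectTransparency.types false

universe u

open CategoryTheory CategoryTheory.Limits AlgebraicGeometry

namespace Groth.Agent.H14.QCCrit

open Groth.Agent.Lib.AlgStack
open Groth.Agent.H14.Sep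
open Groth.Agent.H14.Chart
open FibCat (IsEquivOver fp fpFst fpSnd fpIso overCat)
open AlgSt (ofSp ofSpMap ofOverCat toOverCat spMapOfOver RepByAlgSp1 RepByAlgSpWith IsAlgStack overMap)
open AlgSp (Sp yon IsAlgSpace LocP)

variable {S : Scheme.{u}} {𝒳 𝒴 : AlgSt.Cat S}

/-- Lifts over the points of a dense set of a domain spread to an open set. -/
def StackSpreads (f : 𝒴 ⥤ᵇ 𝒳) : Prop :=
  ∀ (A : Type u) [CommRing A] [IsDomain A] (sA : Spec (CommRingCat.of A) ⟶ S)
      (a : overCat (Over.mk sA) ⥤ᵇ 𝒳) (D : Set ↥(Spec (CommRingCat.of A))), Dense D →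
      (∀ p ∈ D, ∃ yp : overCat (Over.mk ((Spec (CommRingCat.of A)).fromSpecResidueField p ≫ sA)) ⥤ᵇ 𝒴,
          Nonempty (BasedFunctor.comp yp f ≅ BasedFunctor.comp (overMap (Over.homMk ((Spec (CommRingCat.of A)).fromSpecResidueField p) rfl : Over.mk (((Spec (CommRingCat.of A)).fromSpecResidueField p) ≫ sA) ⟶ Over.mk sA)) a)) →
      ∃ U : (Spec (CommRingCat.of A)).Opens, (U : Set ↥(Spec (CommRingCat.of A))).Nonempty ∧
        ∃ yU : overCat (Over.mk (U.ι ≫ sA)) ⥤ᵇ 𝒴,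
          Nonempty (BasedFunctor.comp yU f ≅ BasedFunctor.comp (overMap (Over.homMk (U.ι) rfl : Over.mk ((U.ι) ≫ sA) ⟶ Over.mk sA)) a)

/-- A lift of a chart from a map to the representing space. -/
theorem exists_lift_of_hom {f : 𝒴 ⥤ᵇ 𝒳} {V T : Over S} {v : overCat V ⥤ᵇ 𝒳} {G : Sp S}
    {e : ofSp G ⥤ᵇ fp v f} (g : (yon S).obj T ⟶ G) (a : T ⟶ V)
    (ha : g ≫ spMapOfOver (BasedFunctor.comp e (fpFst v f)) = (yon S).map a) :
    ∃ z : overCat T ⥤ᵇ 𝒴, Nonempty (BasedFunctor.comp z f ≅ BasedFunctor.comp (overMap a) v) := by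
  let η : overCat T ⥤ᵇ fp v f :=
    BasedFunctor.comp (ofOverCat T) (BasedFunctor.comp (ofSpMap g) e)
  let ι₀ : BasedFunctor.comp η (fpFst v f) ≅ Lft.vOf a :=
    BasedBasic.isoWhiskerLeft (ofOverCat T)
      (Rep.isoSpMapOfOver (BasedFunctor.comp (ofSpMap g) (BasedFunctor.comp e (fpFst v f))) ≪≫
        eqToIso (by rw [Rep.spMapOfOver_precomp, ha]))
  let ι : BasedFunctor.comp η (fpFst v f) ≅ overMap a := ι₀ ≪≫ eqToIso rfl
  exact ⟨BasedFunctor.comp η (fpSnd v f),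
    ⟨(BasedBasic.isoWhiskerLeft η (fpIso v f)).symm ≪≫ BasedBasic.isoWhiskerRight ι v⟩⟩

/-- A monomorphism locally of finite presentation to a locally Noetherian stack with spreading lifts is
quasi-compact. -/
theorem isQuasiCompactMor_of_mono (h𝒳 : IsAlgStack Scheme.fppfPrecoverage 𝒳)
    (hn : AlgSt.SmoothLocally (fun X => IsLocallyNoetherian X) 𝒳) {f : 𝒴 ⥤ᵇ 𝒳}
    (hrep : RepByAlgSp1 f) (hlfp : RepByAlgSpWith (LocP @LocallyOfFinitePresentation) f)
    (hm : AlgSt.IsMono f) (hc : StackSpreads f) : RepByAlgSpWith AlgSp.IsQuasiCompactMor f := by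
  obtain ⟨V, v, hv, hvs⟩ := h𝒳.atlas
  have : IsLocallyNoetherian V.left := hn V v hv
  obtain ⟨G, e, he, hmono⟩ := hm V v
  let γ : G.obj ⟶ (yon S).obj V := spMapOfOver (BasedFunctor.comp e (fpFst v f))
  have : Mono γ := hmono
  have hγ : LocP @LocallyOfFinitePresentation γ := Space.prop_of_rep
    (IsAlgFp.respectsIsoSp_locP Lib.SourceDescent.Scheme.locallyOfFinitePresentation) hlfp G.property he
  have hs : SpreadsLifts γ := by
    intro A _ _ sA i D hD hp
    obtain ⟨U, hU, yU, ⟨εU⟩⟩ := hc A sA (BasedFunctor.comp (overMap i) v) D hD fun p hpD => by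
      obtain ⟨g, hg⟩ := hp p hpD
      obtain ⟨z, ⟨ε⟩⟩ := exists_lift_of_hom (v := v) (f := f) (e := e) g _ hg
      exact ⟨z, ⟨ε ≪≫ (BasedBasic.isoWhiskerRight (Lib.AlgStack.ChartLift.overMapComp _ i) v).symm⟩⟩
    obtain ⟨g, hg, -⟩ := Points.exists_hom_of_iso he
      ((Over.homMk U.ι rfl : Over.mk (U.ι ≫ sA) ⟶ Over.mk sA) ≫ i) yU
      ((εU ≪≫ BasedBasic.isoWhiskerRight (Lib.AlgStack.ChartLift.overMapComp _ i) v).symm)
    exact ⟨U, hU, g, hg⟩
  have hqc : AlgSp.IsQuasiCompactMor γ := isQuasiCompactMor_of_spreads G.property hγ hs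
  have hf : RepByAlgSpWith AlgSp.IsQuasiCompactMor (fpFst v f) :=
    (Rep.repByAlgSpWith_iff_of_isEquivOver (f := fpFst v f)
      (f' := ofSpMap (spMapOfOver (BasedFunctor.comp e (fpFst v f)))) he (Rep.isEquivOver_toOverCat V)
      (Rep.isoSpMapOfOver (BasedFunctor.comp e (fpFst v f))).symm).2
      (Lib.AlgStack.Descend.repByAlgSpWith_ofSpMap SpProps.stableBC_qc G.property
        (IsAlgSpace.yon_obj V) hqc)
  refine Cover.rep_descend SpProps.stableBC_qc SpProps.fromSchemes_qc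
    (fun _ _ _ γ s hG hs h => Cover.qc_descend hG hs h) hrep fun T z => ?_
  obtain ⟨T', s, hs', w, ⟨α⟩⟩ :=
    Cover.exists_lift (SliceEtale.flat_of_smooth hv) (SliceEtale.lfp_of_smooth hv) hvs z
  exact ⟨T', s, hs', (Rep.repByAlgSpWith_iff_of_isEquivOver
    (f := fpFst (BasedFunctor.comp (Lft.vOf s) z) f) (f' := fpFst w (fpFst v f))
    (BasedBasic.IsEquivOver.comp (Rep.isEquivOver_pasteBase w v f)
      (FibProd.isEquivOver_congrLeft α.symm f))
    BasedBasic.isEquivOver_id (eqToIso rfl)).2 (Rep.repByAlgSpWith_fpFst w hf)⟩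

end Groth.Agent.H14.QCCrit
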