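import Groth.Agent.H14.QCCrit.Generic
import Groth.Agent.H14.QCCrit.Mono
import Groth.Agent.H14.Sep.Main4

/-!
Quasi-compactness of the diagonal from quasi-compact automorphisms and generic isomorphisms.
-/

set_option autoImplicit false
set_option backward.isDefEq.respectTransparency false
set_option backward.isDefEq.respectTransparency.types false
set_option maxHeartbeats 400000

universe u

open CategoryTheory CategoryTheory.Limits AlgebraicGeometry

namespace Groth.Agent.H14.QCCrit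

open Groth.Agent.Lib.AlgStack
open Groth.Agent.H14.Sep
open Groth.Agent.H14.Chart
open Lib.AlgStack.Diag (isoToProd prodToFp pair)
open Lib.AlgStack.ChartLift (overMapComp mapOf isoMapOf)
open FibCat (IsEquivOver fp fpFst fpSnd fpLift fpIso diag overCat toSelf)
open AlgSt (ofSp ofSpMap ofOverCat toOverCat spMapOfOver RepByAlgSpWith IsAlgStack overMap)
open AlgSp (Sp yon IsAlgSpace LocP)

variable {S : Scheme.{u}} {𝒳 : AlgSt.Cat S}

/-- Automorphism spaces over affine schemes are quasi-compact. -/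
def AutQC (𝒳 : AlgSt.Cat S) : Prop :=
  ∀ (U : Over S), IsAffine U.left → ∀ (x : overCat U ⥤ᵇ 𝒳),
      ∃ (F : AlgSp.Space S) (e : ofSp F.obj ⥤ᵇ fp (fpLift x x (Iso.refl _)) (diag (toSelf 𝒳))),
        IsEquivOver e ∧
          AlgSp.IsQuasiCompactMor (spMapOfOver (BasedFunctor.comp e (fpFst _ _)))

/-- Objects over integral affine schemes isomorphic on a dense set of points are so on a dense open. -/
def GenIso (𝒳 : AlgSt.Cat S) : Prop :=
  ∀ (U : Over S), IsAffine U.left → IsIntegral U.left → ∀ (x y : overCat U ⥤ᵇ 𝒳)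
      (D : Set ↥U.left), Dense D →
      (∀ t ∈ D, ∃ (L : Type u) (_ : Field L) (g : Spec (CommRingCat.of L) ⟶ U.left), Set.range g.base = {t} ∧
        Nonempty (BasedFunctor.comp (overMap (Over.homMk g rfl : Over.mk (g ≫ U.hom) ⟶ U)) x ≅
          BasedFunctor.comp (overMap (Over.homMk g rfl : Over.mk (g ≫ U.hom) ⟶ U)) y)) →
      ∃ V : U.left.Opens, Dense (V : Set ↥U.left) ∧
        Nonempty (BasedFunctor.comp (overMap (Over.homMk V.ι rfl : Over.mk (V.ι ≫ U.hom) ⟶ U)) x ≅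
          BasedFunctor.comp (overMap (Over.homMk V.ι rfl : Over.mk (V.ι ≫ U.hom) ⟶ U)) y)

variable {U : Over S} {z₀ : overCat U ⥤ᵇ fp (toSelf 𝒳) (toSelf 𝒳)} {G : AlgSp.Space S}
  {e : ofSp G.obj ⥤ᵇ fp z₀ (diag (toSelf 𝒳))}

/-- The space of isomorphisms is generically quasi-compact. -/
theorem genericallyQC (he : IsEquivOver e) (hi : AutQC 𝒳) (hii : GenIso 𝒳) :
    GenericallyQC (spMapOfOver (BasedFunctor.comp e (fpFst z₀ (diag (toSelf 𝒳))))) := by
  set γ : G.obj ⟶ (yon S).obj U := spMapOfOver (BasedFunctor.comp e (fpFst z₀ (diag (toSelf 𝒳))))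
  intro A _ _ sA i D hD hp
  let UA : Over S := Over.mk sA
  have hA : IsAffine UA.left := inferInstanceAs (IsAffine (Spec (CommRingCat.of A)))
  have hAi : IsIntegral UA.left := inferInstanceAs (IsIntegral (Spec (CommRingCat.of A)))
  let x : overCat UA ⥤ᵇ 𝒳 := BasedFunctor.comp (overMap i) (BasedFunctor.comp z₀ (fpFst _ _))
  let y : overCat UA ⥤ᵇ 𝒳 := BasedFunctor.comp (overMap i) (BasedFunctor.comp z₀ (fpSnd _ _))
  obtain ⟨V₀, hV₀, ⟨ε₀⟩⟩ := hii UA hA hAi x y D hD fun p hpD => by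
    obtain ⟨a, ha⟩ := hp p hpD
    let T : Over S := Over.mk ((Spec (CommRingCat.of A)).fromSpecResidueField p ≫ sA)
    let pm : T ⟶ UA := Over.homMk ((Spec (CommRingCat.of A)).fromSpecResidueField p) rfl
    have sq := IsPullback.of_hasPullback γ ((yon S).map (pm ≫ i))
    have hP := Lib.AlgSpace.isAlgSpace_of_isPullback sq (IsAlgSpace.yon_obj U).diag G.property
      (IsAlgSpace.yon_obj T)
    let t : ↥T.left := IsLocalRing.closedPoint ((Spec (CommRingCat.of A)).residueField p)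
    obtain ⟨z, -, -⟩ := Lib.AlgSpace.exists_of_isPullback sq a (AlgSp.Points.schemeHomeo T t) (by
      rw [AlgSp.Points.map_yon_map_apply, ← Homeomorph.symm_apply_eq]
      refine Eq.trans ha ?_
      change i.left p = i.left ((Spec (CommRingCat.of A)).fromSpecResidueField p t)
      rw [Scheme.fromSpecResidueField_apply])
    obtain ⟨P, π, hπ, hπs⟩ := hP.atlas
    obtain ⟨w, -⟩ := Lib.AlgSpace.surjective_ofPt hπs z
    obtain ⟨s, hs⟩ := (yon S).map_surjective (π ≫ pullback.snd γ ((yon S).map (pm ≫ i)))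
    let g : Spec (P.left.residueField w) ⟶ Spec (CommRingCat.of A) :=
      P.left.fromSpecResidueField w ≫ (s ≫ pm).left
    have hg : g ≫ sA = P.left.fromSpecResidueField w ≫ P.hom := by
      rw [Category.assoc]
      congr 1
      exact Over.w (s ≫ pm)
    let ρ : Over.mk (g ≫ sA) ⟶ P := Over.homMk (P.left.fromSpecResidueField w) hg.symm
    let gm : Over.mk (g ≫ sA) ⟶ UA := Over.homMk g rfl
    have hgm : ρ ≫ s ≫ pm = gm := Over.OverMorphism.ext rfl
    obtain ⟨zL, ⟨ε⟩⟩ := exists_lift_of_hom (v := z₀) (f := diag (toSelf 𝒳)) (e := e)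
      ((yon S).map ρ ≫ π ≫ pullback.fst γ ((yon S).map (pm ≫ i))) (gm ≫ i) (by
        change (_ ≫ _ ≫ _) ≫ γ = _
        rw [Category.assoc ((yon S).map ρ), Category.assoc π, sq.w, ← Category.assoc π, ← hs,
          ← Functor.map_comp, ← Functor.map_comp, ← hgm, Category.assoc ρ, Category.assoc s])
    refine ⟨↥(P.left.residueField w), inferInstance, g, ?_, ⟨?_⟩⟩
    · refine Set.eq_singleton_iff_nonempty_unique_mem.2 ⟨Set.range_nonempty _, ?_⟩
      rintro q ⟨k, rfl⟩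
      exact (Scheme.fromSpecResidueField_apply p _ :)
    · let e₁ : BasedFunctor.comp (overMap gm) x ≅ zL :=
        (BasedBasic.isoWhiskerRight (overMapComp gm i) (BasedFunctor.comp z₀ (fpFst _ _)) :
          BasedFunctor.comp (overMap gm) x ≅ _) ≪≫ BasedBasic.isoWhiskerRight ε.symm (fpFst _ _)
      let e₂ : BasedFunctor.comp (overMap gm) y ≅ zL :=
        (BasedBasic.isoWhiskerRight (overMapComp gm i) (BasedFunctor.comp z₀ (fpSnd _ _)) :
          BasedFunctor.comp (overMap gm) y ≅ _) ≪≫ BasedBasic.isoWhiskerRight ε.symm (fpSnd _ _)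
      exact e₁ ≪≫ e₂.symm
  obtain ⟨a, ha⟩ := hV₀.nonempty
  obtain ⟨O, hO, haO, hOV⟩ := exists_isAffineOpen_mem_and_subset (U := V₀) ha
  refine ⟨O, ⟨a, haO⟩, ?_⟩
  let T : Over S := Over.mk (O.ι ≫ sA)
  have hOV' : O ≤ V₀ := hOV
  have hT : IsAffine T.left := hO
  let om : T ⟶ UA := Over.homMk O.ι rfl
  let j : T ⟶ Over.mk (V₀.ι ≫ sA) := Over.homMk (UA.left.homOfLE hOV') (by
    change UA.left.homOfLE hOV' ≫ V₀.ι ≫ sA = O.ι ≫ sA
    rw [← Category.assoc, Scheme.homOfLE_ι])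
  have hj : j ≫ (Over.homMk V₀.ι rfl : Over.mk (V₀.ι ≫ sA) ⟶ UA) = om :=
    Over.OverMorphism.ext (Scheme.homOfLE_ι _ hOV')
  let xT : overCat T ⥤ᵇ 𝒳 := BasedFunctor.comp (overMap om) x
  let εT : xT ≅ BasedFunctor.comp (overMap om) y :=
    (BasedBasic.isoWhiskerRight (eqToIso (by rw [hj]) ≪≫ (overMapComp j _).symm) x :
      xT ≅ _) ≪≫
      BasedBasic.isoWhiskerLeft (overMap j) ε₀ ≪≫
      BasedBasic.isoWhiskerRight (overMapComp j _ ≪≫ eqToIso (by rw [hj])) y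
  obtain ⟨F, eF, heF, hqc⟩ := hi T hT xT
  have sqF : IsPullback (𝟙 F.obj) (spMapOfOver (BasedFunctor.comp eF (fpFst _ _)))
      (spMapOfOver (BasedFunctor.comp eF (fpFst _ _))) (𝟙 _) :=
    IsPullback.of_horiz_isIso ⟨by simp⟩
  have hFc := Lib.AlgSpMor.QC.compactSpace_of_isQuasiCompactMor hqc sqF
  let b : T ⟶ U := om ≫ i
  let ε : BasedFunctor.comp (Lft.vOf b) z₀ ≅ fpLift xT xT (Iso.refl _) :=
    isoToProd
      ((BasedBasic.isoWhiskerRight (overMapComp om i) (BasedFunctor.comp z₀ (fpFst _ _)) :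
          xT ≅ BasedFunctor.comp (overMap b) (BasedFunctor.comp z₀ (fpFst _ _))).symm)
      ((BasedBasic.isoWhiskerRight (overMapComp om i) (BasedFunctor.comp z₀ (fpSnd _ _)) :
          BasedFunctor.comp (overMap om) y ≅
            BasedFunctor.comp (overMap b) (BasedFunctor.comp z₀ (fpSnd _ _))).symm ≪≫ εT.symm)
  have sq := IsPullback.of_hasPullback γ ((yon S).map b)
  have := BasedBasic.IsEquivOver.full (Rep.isEquivOver_toOverCat U)
  have := BasedBasic.IsEquivOver.faithful (Rep.isEquivOver_toOverCat U)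
  have h1 := Space.isEquivOver_sqLift (sq.map (sheafToPresheaf _ _)).flip
  have h2 := FibProd.isEquivOver_fpMap (toOverCat T) e (toOverCat U)
    (F := Lft.vOf b) (G := fpFst z₀ (diag (toSelf 𝒳))) (F' := ofSpMap ((yon S).map b))
    (G' := ofSpMap γ) (Iso.refl _)
    (Rep.isoSpMapOfOver (BasedFunctor.comp e (fpFst z₀ (diag (toSelf 𝒳)))))
    (Rep.isEquivOver_toOverCat T) he
  have h3 := Rep.isEquivOver_pasteBase (Lft.vOf b) z₀ (diag (toSelf 𝒳))
  have h4 := FibProd.isEquivOver_congrLeft ε (diag (toSelf 𝒳))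
  obtain ⟨q, hq, -, -⟩ := BasedBasic.IsEquivOver.exists_inverse heF
  have hΘ := BasedBasic.IsEquivOver.comp (BasedBasic.IsEquivOver.comp
    (BasedBasic.IsEquivOver.comp (BasedBasic.IsEquivOver.comp h1 h2) h3) h4) hq
  have key : ∀ {P Q : Sp S} (k : P ⟶ Q), IsIso k → CompactSpace (AlgSp.Points Q) →
      CompactSpace (AlgSp.Points P) := fun k _ _ =>
    Lib.AlgSpMor.QC.compactSpace_of_surjective (q := inv k) fun z =>
      ⟨AlgSp.Points.map k z, by rw [← AlgSp.Points.map_comp, IsIso.hom_inv_id, AlgSp.Points.map_id]⟩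
  exact key _ (Space.isIso_spHom hΘ) hFc

/-- The diagonal is quasi-compact. -/
theorem isQuasiCompactMor_diag [IsLocallyNoetherian S] (h𝒳 : IsAlgStack Scheme.fppfPrecoverage 𝒳)
    (hlfp : ∀ (U : Over S) (x : overCat U ⥤ᵇ 𝒳),
      RepByAlgSpWith (LocP @Smooth) x → LocallyOfFinitePresentation U.hom)
    (hi : AutQC 𝒳) (hii : GenIso 𝒳) :
    RepByAlgSpWith AlgSp.IsQuasiCompactMor (diag (toSelf 𝒳)) := by
  obtain ⟨V, v, hv, hvs⟩ := h𝒳.atlas
  have : LocallyOfFinitePresentation V.hom := hlfp V v hv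
  have : LocallyOfFiniteType (V ⨯ V).hom := by
    rw [← Over.w (prod.fst : V ⨯ V ⟶ V), ← Over.prodLeftIsoPullback_hom_fst]
    infer_instance
  have : IsLocallyNoetherian (V ⨯ V).left := LocallyOfFiniteType.isLocallyNoetherian (V ⨯ V).hom
  let z₀ : overCat (V ⨯ V) ⥤ᵇ fp (toSelf 𝒳) (toSelf 𝒳) :=
    BasedFunctor.comp (prodToFp V V) (Lft.sqAtlas v)
  obtain ⟨G, e, he⟩ := h𝒳.diag (V ⨯ V) z₀
  have hqc : AlgSp.IsQuasiCompactMor (spMapOfOver (BasedFunctor.comp e (fpFst z₀ (diag (toSelf 𝒳))))) :=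
    isQuasiCompactMor_of_generic G.property (genericallyQC he hi hii)
  have hf : RepByAlgSpWith AlgSp.IsQuasiCompactMor (fpFst z₀ (diag (toSelf 𝒳))) :=
    (Rep.repByAlgSpWith_iff_of_isEquivOver (f := fpFst z₀ (diag (toSelf 𝒳)))
      (f' := ofSpMap (spMapOfOver (BasedFunctor.comp e (fpFst z₀ (diag (toSelf 𝒳)))))) he
      (Rep.isEquivOver_toOverCat (V ⨯ V))
      (Rep.isoSpMapOfOver (BasedFunctor.comp e (fpFst z₀ (diag (toSelf 𝒳))))).symm).2
      (Lib.AlgStack.Descend.repByAlgSpWith_ofSpMap SpProps.stableBC_qc G.property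
        (IsAlgSpace.yon_obj _) hqc)
  refine Cover.rep_descend SpProps.stableBC_qc SpProps.fromSchemes_qc
    (fun _ _ _ γ s hG hs h => Cover.qc_descend hG hs h) h𝒳.diag fun T z => ?_
  have hv₁ := SliceEtale.flat_of_smooth hv
  have hv₂ := SliceEtale.lfp_of_smooth hv
  obtain ⟨T₁, s₁, hs₁, w₁, ⟨α₁⟩⟩ := Cover.exists_lift hv₁ hv₂ hvs (BasedFunctor.comp z (fpFst _ _))
  obtain ⟨T', s₂, hs₂, w₂, ⟨α₂⟩⟩ := Cover.exists_lift hv₁ hv₂ hvs
    (BasedFunctor.comp (Lft.vOf s₁) (BasedFunctor.comp z (fpSnd _ _)))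
  obtain ⟨i, hi', -, ⟨η⟩⟩ :=
    BasedBasic.IsEquivOver.exists_inverse (Lib.AlgStack.Diag.isEquivOver_prodToFp V V)
  let p' : overCat T' ⥤ᵇ fp (toSelf (overCat V)) (toSelf (overCat V)) :=
    pair (BasedFunctor.comp (Lft.vOf s₂) w₁) w₂
  let m := mapOf (BasedFunctor.comp p' i)
  let εp : BasedFunctor.comp p' (Lft.sqAtlas v) ≅ BasedFunctor.comp (overMap m) z₀ :=
    BasedBasic.isoWhiskerRight
      ((BasedBasic.isoWhiskerLeft p' η).symm ≪≫
        BasedBasic.isoWhiskerRight (isoMapOf (BasedFunctor.comp p' i)) (prodToFp V V) :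
        p' ≅ BasedFunctor.comp (overMap m) (prodToFp V V)) (Lft.sqAtlas v)
  let εz : BasedFunctor.comp (Lft.vOf (s₂ ≫ s₁)) z ≅ BasedFunctor.comp p' (Lft.sqAtlas v) :=
    eqToIso (by rw [← Lft.vOf_comp]; rfl) ≪≫
      isoToProd (Φ := BasedFunctor.comp (Lft.vOf s₂) (BasedFunctor.comp (Lft.vOf s₁) z))
        (Ψ := BasedFunctor.comp p' (Lft.sqAtlas v)) (BasedBasic.isoWhiskerLeft (Lft.vOf s₂) α₁) α₂
  obtain ⟨_, _, _⟩ := hs₁
  obtain ⟨_, _, _⟩ := hs₂
  refine ⟨T', s₂ ≫ s₁, ⟨by rw [Over.comp_left]; infer_instance, by rw [Over.comp_left]; infer_instance,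
    by rw [Over.comp_left]; infer_instance⟩, ?_⟩
  exact (Rep.repByAlgSpWith_iff_of_isEquivOver
    (f := fpFst (BasedFunctor.comp (Lft.vOf (s₂ ≫ s₁)) z) (diag (toSelf 𝒳)))
    (f' := fpFst (overMap m) (fpFst z₀ (diag (toSelf 𝒳))))
    (BasedBasic.IsEquivOver.comp (Rep.isEquivOver_pasteBase (overMap m) z₀ (diag (toSelf 𝒳)))
      (FibProd.isEquivOver_congrLeft (εz ≪≫ εp).symm (diag (toSelf 𝒳))))
    BasedBasic.isEquivOver_id (eqToIso rfl)).2 (Rep.repByAlgSpWith_fpFst (overMap m) hf)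

end Groth.Agent.H14.QCCrit
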