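import Groth.Agent.H14.QCCrit.Noeth

/-!
Quasi-compactness of algebraic spaces over Noetherian schemes by generic quasi-compactness.
-/

set_option autoImplicit false
set_option backward.isDefEq.respectTransparency false
set_option backward.isDefEq.respectTransparency.types false

universe u

open CategoryTheory CategoryTheory.Limits AlgebraicGeometry TopologicalSpace Topology

namespace Groth.Agent.H14.QCCrit

open Groth.Agent.Lib.AlgSpace
open AlgSp (Sp yon IsAlgSpace RepWith LocP Points)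

variable {S : Scheme.{u}} {V : Over S}

/-- Over the spectrum of a domain with dense image the space is quasi-compact over some non-empty open. -/
def GenericallyQC {F : Sp S} (γ : F ⟶ (yon S).obj V) : Prop :=
  ∀ (A : Type u) [CommRing A] [IsDomain A] (sA : Spec (CommRingCat.of A) ⟶ S)
    (i : Over.mk sA ⟶ V) (D : Set ↥(Spec (CommRingCat.of A))), Dense D →
    (∀ p ∈ D, ∃ x : Points F, toBase γ x = i.left p) →
    ∃ U : (Spec (CommRingCat.of A)).Opens, (U : Set ↥(Spec (CommRingCat.of A))).Nonempty ∧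
      CompactSpace (Points (pullback γ ((yon S).map
        ((Over.homMk U.ι rfl : Over.mk (U.ι ≫ sA) ⟶ Over.mk sA) ≫ i))))

/-- Quasi-compactness over a Noetherian scheme. -/
theorem compactSpace_of_generic [IsLocallyNoetherian V.left] [CompactSpace ↥V.left] {F : Sp S}
    {γ : F ⟶ (yon S).obj V} (h : GenericallyQC γ) : CompactSpace (Points F) := by
  have : IsNoetherian V.left := ⟨⟩
  refine isCompact_univ_of_generic (toBase γ) fun Z hZc hZi hZd => ?_
  obtain ⟨η, hη⟩ := QuasiSober.sober hZi hZc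
  obtain ⟨O, hO, hηO, -⟩ := exists_isAffineOpen_mem_and_subset (U := ⊤) (Set.mem_univ η)
  let 𝔭 := hO.primeIdealOf ⟨η, hηO⟩
  let A := Γ(V.left, O) ⧸ 𝔭.asIdeal
  let qA : Spec (CommRingCat.of A) ⟶ Spec Γ(V.left, O) :=
    Spec.map (CommRingCat.ofHom (Ideal.Quotient.mk 𝔭.asIdeal))
  let i₀ : Spec (CommRingCat.of A) ⟶ V.left := qA ≫ hO.fromSpec
  have hq : Set.range qA = closure {𝔭} := by
    rw [PrimeSpectrum.closure_singleton]
    exact (range_comap_of_surjective _ _ Ideal.Quotient.mk_surjective).trans (by rw [Ideal.mk_ker])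
  have hi₀ : Set.range i₀ = (O : Set ↥V.left) ∩ Z := by
    have h1 : Set.range i₀ = hO.fromSpec '' Set.range qA := by
      rw [← Set.range_comp]; rfl
    rw [h1, hq, hO.fromSpec.isOpenEmbedding.isInducing.closure_eq_preimage_closure_image,
      Set.image_singleton, show hO.fromSpec 𝔭 = η from hO.fromSpec_primeIdealOf ⟨η, hηO⟩,
      hη.def, Set.image_preimage_eq_inter_range, hO.range_fromSpec, Set.inter_comm]
  have : IsClosedImmersion qA := IsClosedImmersion.spec_of_surjective _ Ideal.Quotient.mk_surjective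
  have hemb : IsEmbedding i₀ := hO.fromSpec.isOpenEmbedding.isEmbedding.comp
    qA.isClosedEmbedding.isEmbedding
  let sA := i₀ ≫ V.hom
  let i : Over.mk sA ⟶ V := Over.homMk i₀ rfl
  let D : Set ↥(Spec (CommRingCat.of A)) := i₀ ⁻¹' Set.range (toBase γ)
  have hD : Dense D := by
    refine dense_iff_inter_open.2 fun U₀ hU₀ ⟨u, hu⟩ => ?_
    obtain ⟨U₁, hU₁, rfl⟩ := hemb.isInducing.isOpen_iff.1 hU₀
    have huZ : i₀ u ∈ (O : Set ↥V.left) ∩ Z := hi₀ ▸ Set.mem_range_self u
    obtain ⟨y, ⟨hy1, hy2⟩, hyr, hyZ⟩ :=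
      mem_closure_iff.1 (hZd huZ.2) _ (hU₁.inter O.2) ⟨hu, huZ.1⟩
    obtain ⟨a, rfl⟩ : y ∈ Set.range i₀ := hi₀ ▸ ⟨hy2, hyZ⟩
    exact ⟨a, hy1, hyr⟩
  obtain ⟨U, hne, hc⟩ := h A sA i D hD fun p hp => hp
  obtain ⟨U₁, hU₁, hUU₁⟩ := hemb.isInducing.isOpen_iff.1 U.2
  replace hUU₁ : i₀ ⁻¹' U₁ = (U : Set ↥(Spec (CommRingCat.of A))) := hUU₁
  refine ⟨U₁ ∩ O, hU₁.inter O.2, ?_, ?_⟩
  · obtain ⟨a, ha⟩ := hne
    have : i₀ a ∈ (O : Set ↥V.left) ∩ Z := hi₀ ▸ Set.mem_range_self a
    exact ⟨i₀ a, ⟨show a ∈ i₀ ⁻¹' U₁ from hUU₁ ▸ ha, this.1⟩, this.2⟩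
  let T : Over S := Over.mk (U.ι ≫ sA)
  let b : T ⟶ V := (Over.homMk U.ι rfl : T ⟶ Over.mk sA) ≫ i
  have sq := IsPullback.of_hasPullback γ ((yon S).map b)
  have hpre : toBase γ ⁻¹' (U₁ ∩ O ∩ Z) =
      Points.map (pullback.fst γ ((yon S).map b)) '' Set.univ := by
    ext x
    constructor
    · rintro ⟨⟨hx1, hx2⟩, hx3⟩
      obtain ⟨a, ha⟩ : toBase γ x ∈ Set.range i₀ := hi₀ ▸ ⟨hx2, hx3⟩
      have haU : a ∈ U := show a ∈ (U : Set ↥(Spec (CommRingCat.of A))) by
        rw [← hUU₁]; show i₀ a ∈ U₁; rw [ha]; exact hx1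
      obtain ⟨z, hz, -⟩ := exists_of_isPullback sq x (Points.schemeHomeo T ⟨a, haU⟩) (by
        rw [AlgSp.Points.map_yon_map_apply, ← Homeomorph.symm_apply_eq]
        exact ha.symm)
      exact ⟨z, trivial, hz⟩
    · rintro ⟨z, -, rfl⟩
      obtain ⟨a, ha⟩ := (Points.schemeHomeo T).surjective (Points.map (pullback.snd γ ((yon S).map b)) z)
      let a' : ↥(Spec (CommRingCat.of A)) := U.ι a
      have hx : toBase γ (Points.map (pullback.fst γ ((yon S).map b)) z) = i₀ a' := by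
        rw [toBase, ← Points.map_comp, sq.w, Points.map_comp, ← ha, AlgSp.Points.map_yon_map_apply,
          Homeomorph.symm_apply_apply]
        rfl
      have ha' : i₀ a' ∈ (O : Set ↥V.left) ∩ Z := hi₀ ▸ Set.mem_range_self _
      change toBase γ _ ∈ U₁ ∩ O ∩ Z
      rw [hx]
      exact ⟨⟨show a' ∈ i₀ ⁻¹' U₁ from hUU₁ ▸ a.2, ha'.1⟩, ha'.2⟩
  rw [hpre]
  exact isCompact_univ.image (Points.continuous_map _)

/-- Quasi-compactness over a locally Noetherian scheme. -/
theorem isQuasiCompactMor_of_generic [IsLocallyNoetherian V.left] {F : Sp S} (hF : IsAlgSpace F)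
    {γ : F ⟶ (yon S).obj V} (h : GenericallyQC γ) : AlgSp.IsQuasiCompactMor γ := by
  refine Lib.AlgSpMor.QC.isQuasiCompactMor_of_affine hF (IsAlgSpace.yon_obj V).diag
    fun Z hZ g P fst snd sq => ?_
  obtain ⟨k, rfl⟩ := (yon S).map_surjective g
  obtain ⟨s, hs⟩ := (isCompact_range k.left.continuous).elim_finite_subcover
    (fun O : V.left.affineOpens => (O.1 : Set ↥V.left)) (fun O => O.1.2) fun x _ => by
      obtain ⟨O, hO, hx, -⟩ := exists_isAffineOpen_mem_and_subset (U := ⊤) (Set.mem_univ x)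
      exact Set.mem_iUnion.2 ⟨⟨O, hO⟩, hx⟩
  let W : V.left.Opens := ⨆ O ∈ s, (O : V.left.affineOpens).1
  have hWc : IsCompact (W : Set ↥V.left) := by
    simp only [W, Opens.coe_iSup]
    exact s.isCompact_biUnion fun O _ => O.2.isCompact
  have : CompactSpace ↥W := isCompact_iff_compactSpace.1 hWc
  let Wo : Over S := Over.mk (W.ι ≫ V.hom)
  let j : Wo ⟶ V := Over.homMk W.ι rfl
  have : IsLocallyNoetherian Wo.left := inferInstanceAs (IsLocallyNoetherian W.toScheme)
  have : CompactSpace ↥Wo.left := inferInstanceAs (CompactSpace ↥W)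
  have sqW := IsPullback.of_hasPullback γ ((yon S).map j)
  have hGW := isAlgSpace_of_isPullback sqW (IsAlgSpace.yon_obj V).diag hF (IsAlgSpace.yon_obj Wo)
  have := compactSpace_of_generic (γ := pullback.snd γ ((yon S).map j)) fun A _ _ sA i D hD hp => by
    obtain ⟨U, hU, hc⟩ := h A sA (i ≫ j) D hD fun p hpD => by
      obtain ⟨x, hx⟩ := hp p hpD
      refine ⟨Points.map (pullback.fst γ ((yon S).map j)) x, ?_⟩
      rw [toBase] at hx ⊢
      rw [← Points.map_comp, sqW.w, Points.map_comp,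
        (Homeomorph.symm_apply_eq _).1 hx, AlgSp.Points.map_yon_map_apply, Homeomorph.symm_apply_apply]
      rfl
    refine ⟨U, hU, ?_⟩
    have hw : (yon S).map ((Over.homMk U.ι rfl : Over.mk (U.ι ≫ sA) ⟶ Over.mk sA) ≫ i) ≫
        (yon S).map j = (yon S).map ((Over.homMk U.ι rfl : Over.mk (U.ι ≫ sA) ⟶ Over.mk sA) ≫ i ≫ j) := by
      rw [← Functor.map_comp, Category.assoc]
    let e := pullbackLeftPullbackSndIso γ ((yon S).map j)
        ((yon S).map ((Over.homMk U.ι rfl : Over.mk (U.ι ≫ sA) ⟶ Over.mk sA) ≫ i)) ≪≫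
      pullback.congrHom rfl hw
    exact Lib.AlgSpMor.QC.compactSpace_of_surjective (q := e.inv) fun x =>
      ⟨Points.map e.hom x, by rw [← Points.map_comp, e.hom_inv_id, Points.map_id]⟩
  have hle : Set.range k.left ⊆ Set.range W.ι := by
    simpa [W, Scheme.Opens.range_ι] using hs
  let k' : Z ⟶ Wo := Over.homMk (IsOpenImmersion.lift W.ι k.left hle) (by
    change IsOpenImmersion.lift W.ι k.left hle ≫ W.ι ≫ V.hom = Z.hom
    rw [IsOpenImmersion.lift_fac_assoc, Over.w k])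
  have hk' : k' ≫ j = k := Over.OverMorphism.ext (IsOpenImmersion.lift_fac _ _ _)
  have hw : fst ≫ γ = (snd ≫ (yon S).map k') ≫ (yon S).map j := by
    rw [Category.assoc, ← Functor.map_comp, hk', sq.w]
  have sq₂ : IsPullback (sqW.lift fst (snd ≫ (yon S).map k') hw) snd (pullback.snd γ _)
      ((yon S).map k') :=
    IsPullback.of_right (by simpa [← Functor.map_comp, hk'] using sq) (sqW.lift_snd _ _ _) sqW
  have : QuasiSeparatedSpace ↥Wo.left := inferInstance
  have : QuasiCompact k'.left := inferInstance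
  have hrep : RepWith @QuasiCompact (sqW.lift fst (snd ≫ (yon S).map k') hw) :=
    repWith_baseChange sq₂.flip ((AlgSp.repWith_yon_map_iff _ k').2 this)
  exact Lib.AlgSpMor.QC.compactSpace_of_repWith hrep hGW

end Groth.Agent.H14.QCCrit
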