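import Groth.Agent.H14.QCCrit.Mono
import Groth.Agent.H14.Chart.ImmDescent
import Groth.Agent.H69.MonoImmersion
import Groth.Agent.Lib.AlgSpMor.RepBySp

/-!
Monomorphisms of stacks with valuative and generic lifting are quasi-compact immersions.
-/

set_option autoImplicit false
set_option backward.isDefEq.respectTransparency false
set_option backward.isDefEq.respectTransparency.types false
set_option maxHeartbeats 400000

universe u

open CategoryTheory CategoryTheory.Limits AlgebraicGeometry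

namespace Groth.Agent.H14.QCCrit

open Groth.Agent.Lib.AlgStack
open Groth.Agent.H14.Sep
open Groth.Agent.H14.Chart
open FibCat (IsEquivOver fp fpFst fpSnd fpIso overCat)
open AlgSt (ofSp ofSpMap ofOverCat toOverCat spMapOfOver RepByAlgSp1 RepByAlgSpWith IsAlgStack overMap)
open AlgSp (Sp yon IsAlgSpace LocP RepWith)

variable {S : Scheme.{u}} {𝒳 𝒴 : AlgSt.Cat S}

/-- Lifts over the generic and the closed point of a discrete valuation ring extend. -/
def StackDVRLifts (f : 𝒴 ⥤ᵇ 𝒳) : Prop :=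
  ∀ (A : Type u) [CommRing A] [IsDomain A] [IsDiscreteValuationRing A] (K : Type u) [Field K] [Algebra A K]
      [IsFractionRing A K] (sA : Spec (CommRingCat.of A) ⟶ S) (a : overCat (Over.mk sA) ⥤ᵇ 𝒳),
      (∃ yK : overCat (Over.mk (Spec.map (CommRingCat.ofHom (algebraMap A K)) ≫ sA)) ⥤ᵇ 𝒴,
          Nonempty (BasedFunctor.comp yK f ≅ BasedFunctor.comp (overMap (Over.homMk (Spec.map (CommRingCat.ofHom (algebraMap A K))) rfl : Over.mk ((Spec.map (CommRingCat.ofHom (algebraMap A K))) ≫ sA) ⟶ Over.mk sA)) a)) →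
      (∃ yk : overCat (Over.mk (Spec.map (CommRingCat.ofHom (IsLocalRing.residue A)) ≫ sA)) ⥤ᵇ 𝒴,
          Nonempty (BasedFunctor.comp yk f ≅ BasedFunctor.comp (overMap (Over.homMk (Spec.map (CommRingCat.ofHom (IsLocalRing.residue A))) rfl : Over.mk ((Spec.map (CommRingCat.ofHom (IsLocalRing.residue A))) ≫ sA) ⟶ Over.mk sA)) a)) →
      ∃ y : overCat (Over.mk sA) ⥤ᵇ 𝒴, Nonempty (BasedFunctor.comp y f ≅ a)

/-- A monomorphism with both lifting properties is a quasi-compact immersion. -/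
theorem isQCImm_of_mono (h𝒳 : IsAlgStack Scheme.fppfPrecoverage 𝒳)
    (hn : AlgSt.SmoothLocally (fun X => IsLocallyNoetherian X) 𝒳) {f : 𝒴 ⥤ᵇ 𝒳}
    (hrep : RepByAlgSp1 f) (hlfp : RepByAlgSpWith (LocP @LocallyOfFinitePresentation) f)
    (hm : AlgSt.IsMono f) (hb : StackDVRLifts f) (hc : StackSpreads f) :
    RepByAlgSpWith (RepWith (@IsImmersion ⊓ @QuasiCompact)) f := by
  have hqc := isQuasiCompactMor_of_mono h𝒳 hn hrep hlfp hm hc
  obtain ⟨V, v, hv, hvs⟩ := h𝒳.atlas
  have : IsLocallyNoetherian V.left := hn V v hv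
  obtain ⟨G, e, he, hmono⟩ := hm V v
  let γ : G.obj ⟶ (yon S).obj V := spMapOfOver (BasedFunctor.comp e (fpFst v f))
  have : Mono γ := hmono
  have hγ : LocP @LocallyOfFinitePresentation γ := Space.prop_of_rep
    (IsAlgFp.respectsIsoSp_locP Lib.SourceDescent.Scheme.locallyOfFinitePresentation) hlfp G.property he
  have hlft : LocP @LocallyOfFiniteType γ := fun _ _ a b g ha hb w =>
    haveI : LocallyOfFinitePresentation g.left := hγ a b g ha hb w
    inferInstance
  have hr := (Lib.AlgSpMor.RepBySp.repWith_sepLqf_of_mono G.property (IsAlgSpace.yon_obj V) hlft).rep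
  -- the representing scheme
  have sq := hr.isPullback (𝟙 ((yon S).obj V))
  let g₀ := hr.snd (𝟙 ((yon S).obj V))
  have hi : IsIso (hr.fst (𝟙 ((yon S).obj V))) := sq.isIso_fst_of_isIso
  let φ := hr.fst (𝟙 ((yon S).obj V))
  have hφ : φ ≫ γ = (yon S).map g₀ := sq.w.trans (Category.comp_id _)
  have : Mono g₀.left := by
    have : Mono ((yon S).map g₀) := hφ ▸ inferInstance
    have : Mono g₀ := (yon S).mono_of_mono_map this
    infer_instance
  have : LocallyOfFinitePresentation g₀.left := by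
    refine AlgSp.locP_yon_map ?_
    rw [← hφ]
    exact (IsAlgFp.respectsIsoSp_locP Lib.SourceDescent.Scheme.locallyOfFinitePresentation) (asIso φ) γ
      G.property (IsAlgSpace.yon_obj _) (IsAlgSpace.yon_obj V) hγ
  have exists_scheme_lift : ∀ {T : Over S} (b : T ⟶ V) (z : overCat T ⥤ᵇ 𝒴),
      (BasedFunctor.comp z f ≅ BasedFunctor.comp (overMap b) v) →
        ∃ l : T.left ⟶ _, l ≫ g₀.left = b.left := by
    intro T b z ε
    obtain ⟨g, hg, -⟩ := Points.exists_hom_of_iso he b z ε.symm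
    obtain ⟨l, hl⟩ := (yon S).map_surjective (g ≫ inv φ)
    refine ⟨l.left, congrArg (fun m : T ⟶ V => m.left) ((yon S).map_injective ?_ : l ≫ g₀ = b)⟩
    rw [Functor.map_comp, hl, ← hφ, Category.assoc, IsIso.inv_hom_id_assoc]
    exact hg
  have exists_stack_lift : ∀ {T : Over S} (b : T ⟶ V) (l : T.left ⟶ _), l ≫ g₀.left = b.left →
      ∃ z : overCat T ⥤ᵇ 𝒴, Nonempty (BasedFunctor.comp z f ≅ BasedFunctor.comp (overMap b) v) := by
    intro T b l hl
    let l' : T ⟶ _ := Over.homMk l (by rw [← Over.w g₀, reassoc_of% hl, Over.w b])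
    have hl' : l' ≫ g₀ = b := Over.OverMorphism.ext hl
    exact exists_lift_of_hom (v := v) (f := f) (e := e) ((yon S).map l' ≫ φ) b
      (by rw [Category.assoc, hφ, ← Functor.map_comp, hl'])
  have himm₀ : IsImmersion g₀.left := by
    refine H69.MonoImmersion.isImmersion g₀.left (fun Q hdvr ⟨l₀, hl₀⟩ => ?_) ?_
    · let sA : Spec (CommRingCat.of Q.R) ⟶ S := Q.i₂ ≫ V.hom
      let i : Over.mk sA ⟶ V := Over.homMk Q.i₂ rfl
      obtain ⟨y, ⟨εy⟩⟩ := hb Q.R Q.K sA (BasedFunctor.comp (overMap i) v)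
        (by
          obtain ⟨z, ⟨ε⟩⟩ := exists_stack_lift
            ((Over.homMk (Spec.map (CommRingCat.ofHom (algebraMap Q.R Q.K))) rfl :
              Over.mk (Spec.map (CommRingCat.ofHom (algebraMap Q.R Q.K)) ≫ sA) ⟶ Over.mk sA) ≫ i)
            Q.i₁ Q.commSq.w
          exact ⟨z, ⟨ε ≪≫ (BasedBasic.isoWhiskerRight (Lib.AlgStack.ChartLift.overMapComp _ i) v).symm⟩⟩)
        (by
          obtain ⟨z, ⟨ε⟩⟩ := exists_stack_lift
            ((Over.homMk (Spec.map (CommRingCat.ofHom (IsLocalRing.residue Q.R))) rfl :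
              Over.mk (Spec.map (CommRingCat.ofHom (IsLocalRing.residue Q.R)) ≫ sA) ⟶ Over.mk sA) ≫ i)
            l₀ hl₀
          exact ⟨z, ⟨ε ≪≫ (BasedBasic.isoWhiskerRight (Lib.AlgStack.ChartLift.overMapComp _ i) v).symm⟩⟩)
      obtain ⟨l, hl⟩ := exists_scheme_lift i y εy
      refine ⟨⟨{ l := l, fac_left := ?_, fac_right := hl }⟩⟩
      rw [← cancel_mono g₀.left, Category.assoc, Q.commSq.w]
      exact congrArg (fun m => Spec.map (CommRingCat.ofHom (algebraMap Q.R Q.K)) ≫ m) hl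
    · intro A _ _ s D hD hp
      let sA : Spec (CommRingCat.of A) ⟶ S := s ≫ V.hom
      let i : Over.mk sA ⟶ V := Over.homMk s rfl
      obtain ⟨U, hU, yU, ⟨εU⟩⟩ := hc A sA (BasedFunctor.comp (overMap i) v) D hD fun p hpD => by
        obtain ⟨l, hl⟩ := hp p hpD
        obtain ⟨z, ⟨ε⟩⟩ := exists_stack_lift
          ((Over.homMk ((Spec (CommRingCat.of A)).fromSpecResidueField p) rfl :
            Over.mk ((Spec (CommRingCat.of A)).fromSpecResidueField p ≫ sA) ⟶ Over.mk sA) ≫ i) l hl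
        exact ⟨z, ⟨ε ≪≫ (BasedBasic.isoWhiskerRight (Lib.AlgStack.ChartLift.overMapComp _ i) v).symm⟩⟩
      obtain ⟨l, hl⟩ := exists_scheme_lift
        ((Over.homMk U.ι rfl : Over.mk (U.ι ≫ sA) ⟶ Over.mk sA) ≫ i) yU
        (εU ≪≫ BasedBasic.isoWhiskerRight (Lib.AlgStack.ChartLift.overMapComp _ i) v)
      exact ⟨U, hU, l, hl⟩
  have hγi : RepWith @IsImmersion γ := by
    have h1 : RepWith @IsImmersion ((yon S).map g₀) := (AlgSp.repWith_yon_map_iff _ g₀).2 himm₀
    rw [← hφ] at h1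
    exact (MorphismProperty.cancel_left_of_respectsIso _ φ γ).1 h1
  have hf : RepByAlgSpWith (RepWith @IsImmersion) (fpFst v f) :=
    (Rep.repByAlgSpWith_iff_of_isEquivOver (f := fpFst v f)
      (f' := ofSpMap (spMapOfOver (BasedFunctor.comp e (fpFst v f)))) he (Rep.isEquivOver_toOverCat V)
      (Rep.isoSpMapOfOver (BasedFunctor.comp e (fpFst v f))).symm).2
      (Lib.AlgStack.Descend.repByAlgSpWith_ofSpMap (SpProps2.stableBC_repWith @IsImmersion) G.property
        (IsAlgSpace.yon_obj V) hγi)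
  have himm : RepByAlgSpWith (RepWith @IsImmersion) f := by
    refine Cover.rep_descend (SpProps2.stableBC_repWith @IsImmersion)
      (SpProps2.fromSchemes_repWith @IsImmersion) ImmDescent.descends_imm hrep fun T z => ?_
    obtain ⟨T', s, hs', w, ⟨α⟩⟩ :=
      Cover.exists_lift (SliceEtale.flat_of_smooth hv) (SliceEtale.lfp_of_smooth hv) hvs z
    exact ⟨T', s, hs', (Rep.repByAlgSpWith_iff_of_isEquivOver
      (f := fpFst (BasedFunctor.comp (Lft.vOf s) z) f) (f' := fpFst w (fpFst v f))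
      (BasedBasic.IsEquivOver.comp (Rep.isEquivOver_pasteBase w v f)
        (FibProd.isEquivOver_congrLeft α.symm f))
      BasedBasic.isEquivOver_id (eqToIso rfl)).2 (Rep.repByAlgSpWith_fpFst w hf)⟩
  intro T z
  obtain ⟨F, d, hd, hF⟩ := himm T z
  exact ⟨F, d, hd, Lib.AlgSpace.repWith_inf_iff.2 ⟨hF,
    (Lib.AlgSpMor.QC.repWith_quasiCompact_iff hF.rep).2
      (Space.prop_of_rep (Rep.respectsIsoSp SpProps.stableBC_qc) hqc F.property hd)⟩⟩

end Groth.Agent.H14.QCCrit
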