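import Groth.Agent.Lib.AlgSpMor.QC
import Groth.Agent.Lib.AlgSpace.Local
import Groth.Agent.Lib.AlgSpace.Points
import Groth.Agent.Lib.AlgSpMor.LocP
import Groth.Agent.H14.Sep.SpProps
import Mathlib.Topology.NoetherianSpace

/-!
Quasi-compactness over Noetherian schemes by Noetherian induction.
-/

set_option autoImplicit false
set_option backward.isDefEq.respectTransparency false
set_option backward.isDefEq.respectTransparency.types false

universe u

open CategoryTheory CategoryTheory.Limits AlgebraicGeometry TopologicalSpace Topology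

namespace Groth.Agent.H14.QCCrit

/-- A set over a Noetherian space is compact if it is so generically over each closed irreducible set in
which its image is dense. -/
theorem isCompact_univ_of_generic {X Y : Type*} [TopologicalSpace X] [TopologicalSpace Y]
    [NoetherianSpace Y] (f : X → Y)
    (h : ∀ Z : Set Y, IsClosed Z → IsIrreducible Z → Z ⊆ closure (Set.range f ∩ Z) →
      ∃ W : Set Y, IsOpen W ∧ (W ∩ Z).Nonempty ∧ IsCompact (f ⁻¹' (W ∩ Z))) :
    CompactSpace X := by
  suffices ∀ Z : Closeds Y, IsCompact (f ⁻¹' (Z : Set Y)) from ⟨by simpa using this ⊤⟩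
  intro Z
  apply wellFounded_lt.induction Z
  intro Z ih
  by_cases hirr : IsIrreducible (Z : Set Y)
  · by_cases hd : (Z : Set Y) ⊆ closure (Set.range f ∩ Z)
    · obtain ⟨W, hW, hne, hc⟩ := h Z Z.isClosed hirr hd
      have hlt : (⟨(Z : Set Y) \ W, Z.isClosed.sdiff hW⟩ : Closeds Y) < Z :=
        Set.ssubset_iff_subset_ne.2 ⟨Set.sdiff_subset, fun e => by
          obtain ⟨y, hy, hy'⟩ := hne
          exact ((Set.ext_iff.1 e y).2 hy').2 hy⟩
      have e : f ⁻¹' (Z : Set Y) = f ⁻¹' (W ∩ Z) ∪ f ⁻¹' ((Z : Set Y) \ W) := by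
        rw [← Set.preimage_union, Set.inter_comm, Set.inter_union_sdiff]
      rw [e]
      exact hc.union (ih ⟨_, Z.isClosed.sdiff hW⟩ hlt)
    · have hsub : closure (Set.range f ∩ Z) ⊆ (Z : Set Y) :=
        closure_minimal Set.inter_subset_right Z.isClosed
      have hlt : (⟨closure (Set.range f ∩ Z), isClosed_closure⟩ : Closeds Y) < Z :=
        Set.ssubset_iff_subset_ne.2 ⟨hsub, fun e => hd (le_of_eq e.symm)⟩
      have e : f ⁻¹' (Z : Set Y) = f ⁻¹' closure (Set.range f ∩ Z) :=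
        subset_antisymm (fun x hx => subset_closure (show f x ∈ Set.range f ∩ Z from ⟨⟨x, rfl⟩, hx⟩)) (Set.preimage_mono hsub)
      rw [e]
      exact ih ⟨_, isClosed_closure⟩ hlt
  · obtain ⟨T, hT, hTc, hTi, hTU⟩ := NoetherianSpace.exists_finite_set_isClosed_irreducible Z.isClosed
    rw [hTU, Set.preimage_sUnion]
    refine hT.isCompact_biUnion fun t ht => ?_
    have hlt : (⟨t, hTc t ht⟩ : Closeds Y) < Z := Set.ssubset_iff_subset_ne.2
      ⟨hTU ▸ Set.subset_sUnion_of_mem ht, fun (e : t = (Z : Set Y)) => hirr (e ▸ hTi t ht)⟩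
    exact ih ⟨t, hTc t ht⟩ hlt

open Groth.Agent.Lib.AlgSpace
open AlgSp (Sp yon IsAlgSpace RepWith LocP Points)

variable {S : Scheme.{u}}

/-- A monomorphism locally of finite presentation to the spectrum of a field with a point has a section. -/
theorem exists_section_of_field {K : Type u} [Field K] {str : Spec (CommRingCat.of K) ⟶ S} {F : Sp S}
    (hF : IsAlgSpace F) {q : F ⟶ (yon S).obj (Over.mk str)} [Mono q]
    (hq : LocP @LocallyOfFinitePresentation q) (hne : Nonempty (Points F)) :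
    ∃ σ : (yon S).obj (Over.mk str) ⟶ F, σ ≫ q = 𝟙 _ := by
  obtain ⟨P, π, hπ, hπs⟩ := hF.atlas
  obtain ⟨s, hs⟩ := (yon S).map_surjective (π ≫ q)
  have : LocallyOfFinitePresentation s.left :=
    hq π (𝟙 _) s hπ (AlgSp.repWith_id _ _) (by rw [Category.comp_id, hs])
  obtain ⟨t, -⟩ := surjective_ofPt hπs hne.some
  have : Subsingleton ↥(Over.mk str).left := inferInstanceAs (Subsingleton ↥(Spec (CommRingCat.of K)))
  have : IsIntegral (Over.mk str).left := inferInstanceAs (IsIntegral (Spec (CommRingCat.of K)))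
  have : Surjective s.left := ⟨fun x => ⟨t, Subsingleton.elim _ _⟩⟩
  have : Flat s.left := inferInstance
  have := isLocallySurjective_yon_map s (fppfCover_mk s.left)
  have sq := (IsPullback.of_hasPullback s s).map (yon S)
  obtain ⟨σ, hσ⟩ := exists_desc ((yon S).map s) sq π (by
    rw [← cancel_mono q, Category.assoc, Category.assoc, ← hs, sq.w])
  refine ⟨σ, ?_⟩
  rw [← cancel_epi ((yon S).map s), reassoc_of% hσ, hs, Category.comp_id]

variable {V : Over S}

/-- The point of the target below a point. -/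
noncomputable def toBase {F : Sp S} (γ : F ⟶ (yon S).obj V) (x : Points F) : ↥V.left :=
  (Points.schemeHomeo V).symm (Points.map γ x)

theorem toBase_map {F : Sp S} {γ : F ⟶ (yon S).obj V} {T : Over S} {g : (yon S).obj T ⟶ F}
    {b : T ⟶ V} (h : g ≫ γ = (yon S).map b) (t : ↥T.left) :
    toBase γ (Points.map g (Points.schemeHomeo T t)) = b.left t := by
  rw [toBase, ← Points.map_comp, h, AlgSp.Points.map_yon_map_apply, Homeomorph.symm_apply_apply]

/-- Lifts over the points of a dense set of the spectrum of a domain spread to an open set. -/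
def SpreadsLifts {F : Sp S} (γ : F ⟶ (yon S).obj V) : Prop :=
  ∀ (A : Type u) [CommRing A] [IsDomain A] (sA : Spec (CommRingCat.of A) ⟶ S)
    (i : Over.mk sA ⟶ V) (D : Set ↥(Spec (CommRingCat.of A))), Dense D →
    (∀ p ∈ D, ∃ g : (yon S).obj (Over.mk ((Spec (CommRingCat.of A)).fromSpecResidueField p ≫ sA)) ⟶ F,
      g ≫ γ = (yon S).map ((Over.homMk ((Spec (CommRingCat.of A)).fromSpecResidueField p) rfl :
        Over.mk ((Spec (CommRingCat.of A)).fromSpecResidueField p ≫ sA) ⟶ Over.mk sA) ≫ i)) →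
    ∃ U : (Spec (CommRingCat.of A)).Opens, (U : Set ↥(Spec (CommRingCat.of A))).Nonempty ∧
      ∃ g : (yon S).obj (Over.mk (U.ι ≫ sA)) ⟶ F,
        g ≫ γ = (yon S).map ((Over.homMk U.ι rfl : Over.mk (U.ι ≫ sA) ⟶ Over.mk sA) ≫ i)

/-- Quasi-compactness of a monomorphism over a Noetherian scheme. -/
theorem compactSpace_of_spreads [IsLocallyNoetherian V.left] [CompactSpace ↥V.left] {F : Sp S}
    (hF : IsAlgSpace F) {γ : F ⟶ (yon S).obj V} [Mono γ] (hγ : LocP @LocallyOfFinitePresentation γ)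
    (h : SpreadsLifts γ) : CompactSpace (Points F) := by
  have : IsNoetherian V.left := ⟨⟩
  refine isCompact_univ_of_generic (toBase γ) fun Z hZc hZi hZd => ?_
  obtain ⟨η, hη⟩ := QuasiSober.sober hZi hZc
  obtain ⟨O, hO, hηO, -⟩ := exists_isAffineOpen_mem_and_subset (U := ⊤) (Set.mem_univ η)
  let 𝔭 := hO.primeIdealOf ⟨η, hηO⟩
  let A := Γ(V.left, O) ⧸ 𝔭.asIdeal
  let qA : Spec (CommRingCat.of A) ⟶ Spec Γ(V.left, O) :=
    Spec.map (CommRingCat.ofHom (Ideal.Quotient.mk 𝔭.asIdeal))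
  let i₀ : Spec (CommRingCat.of A) ⟶ V.left := qA ≫ hO.fromSpec
  have hq : Set.range qA = closure {𝔭} := by
    rw [PrimeSpectrum.closure_singleton]
    exact (range_comap_of_surjective _ _ Ideal.Quotient.mk_surjective).trans
      (by rw [Ideal.mk_ker])
  have hi₀ : Set.range i₀ = (O : Set ↥V.left) ∩ Z := by
    have h1 : Set.range i₀ = hO.fromSpec '' Set.range qA := by
      rw [← Set.range_comp]; rfl
    rw [h1, hq, hO.fromSpec.isOpenEmbedding.isInducing.closure_eq_preimage_closure_image,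
      Set.image_singleton, show hO.fromSpec 𝔭 = η from hO.fromSpec_primeIdealOf ⟨η, hηO⟩,
      hη.def, Set.image_preimage_eq_inter_range, hO.range_fromSpec, Set.inter_comm]
  have : IsClosedImmersion qA := IsClosedImmersion.spec_of_surjective _ Ideal.Quotient.mk_surjective
  have hemb : IsEmbedding i₀ := hO.fromSpec.isOpenEmbedding.isEmbedding.comp
    qA.isClosedEmbedding.isEmbedding
  let sA := i₀ ≫ V.hom
  let i : Over.mk sA ⟶ V := Over.homMk i₀ rfl
  let D : Set ↥(Spec (CommRingCat.of A)) := i₀ ⁻¹' Set.range (toBase γ)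
  have hD : Dense D := by
    refine dense_iff_inter_open.2 fun U₀ hU₀ ⟨u, hu⟩ => ?_
    obtain ⟨U₁, hU₁, rfl⟩ := hemb.isInducing.isOpen_iff.1 hU₀
    have huZ : i₀ u ∈ (O : Set ↥V.left) ∩ Z := hi₀ ▸ Set.mem_range_self u
    obtain ⟨y, ⟨hy1, hy2⟩, hyr, hyZ⟩ :=
      mem_closure_iff.1 (hZd huZ.2) _ (hU₁.inter O.2) ⟨hu, huZ.1⟩
    obtain ⟨a, rfl⟩ : y ∈ Set.range i₀ := hi₀ ▸ ⟨hy2, hyZ⟩
    exact ⟨a, hy1, hyr⟩
  have hlift : ∀ p ∈ D,
      ∃ g : (yon S).obj (Over.mk ((Spec (CommRingCat.of A)).fromSpecResidueField p ≫ sA)) ⟶ F,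
        g ≫ γ = (yon S).map ((Over.homMk ((Spec (CommRingCat.of A)).fromSpecResidueField p) rfl :
          Over.mk ((Spec (CommRingCat.of A)).fromSpecResidueField p ≫ sA) ⟶ Over.mk sA) ≫ i) := by
    rintro p ⟨x, hx⟩
    let T : Over S := Over.mk ((Spec (CommRingCat.of A)).fromSpecResidueField p ≫ sA)
    let b : T ⟶ V := (Over.homMk ((Spec (CommRingCat.of A)).fromSpecResidueField p) rfl :
      T ⟶ Over.mk sA) ≫ i
    have sq := IsPullback.of_hasPullback γ ((yon S).map b)
    have hP := isAlgSpace_of_isPullback sq (IsAlgSpace.yon_obj V).diag hF (IsAlgSpace.yon_obj T)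
    have : Mono (pullback.snd γ ((yon S).map b)) := inferInstance
    have hq' := Lib.AlgSpMor.LocP.locP_of_isPullback Lib.SourceDescent.Scheme.locallyOfFinitePresentation
      hF (IsAlgSpace.yon_obj V) (IsAlgSpace.yon_obj T) sq hγ
    let t : ↥T.left := IsLocalRing.closedPoint ((Spec (CommRingCat.of A)).residueField p)
    have hne : Nonempty (Points (pullback γ ((yon S).map b))) := by
      obtain ⟨z, -, -⟩ := exists_of_isPullback sq x (Points.schemeHomeo T t) (by
        rw [AlgSp.Points.map_yon_map_apply, ← Homeomorph.symm_apply_eq]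
        refine Eq.trans hx ?_
        change i₀ p = i₀ ((Spec (CommRingCat.of A)).fromSpecResidueField p t)
        rw [Scheme.fromSpecResidueField_apply])
      exact ⟨z⟩
    obtain ⟨σ, hσ⟩ := exists_section_of_field hP hq' hne
    exact ⟨σ ≫ pullback.fst γ _, by rw [Category.assoc, sq.w, reassoc_of% hσ]⟩
  obtain ⟨U, hne, g, hg⟩ := h A sA i D hD hlift
  obtain ⟨U₁, hU₁, hUU₁⟩ := hemb.isInducing.isOpen_iff.1 U.2
  replace hUU₁ : i₀ ⁻¹' U₁ = (U : Set ↥(Spec (CommRingCat.of A))) := hUU₁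
  refine ⟨U₁ ∩ O, hU₁.inter O.2, ?_, ?_⟩
  · obtain ⟨a, ha⟩ := hne
    have : i₀ a ∈ (O : Set ↥V.left) ∩ Z := hi₀ ▸ Set.mem_range_self a
    exact ⟨i₀ a, ⟨show a ∈ i₀ ⁻¹' U₁ from hUU₁ ▸ ha, this.1⟩, this.2⟩
  let T : Over S := Over.mk (U.ι ≫ sA)
  have : IsNoetherianRing Γ(V.left, O) := IsLocallyNoetherian.component_noetherian ⟨O, hO⟩
  have : IsNoetherianRing A := inferInstance
  have : CompactSpace ↥T.left := isCompact_iff_compactSpace.1
    (NoetherianSpace.isCompact (α := PrimeSpectrum A) _)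
  have hpre : toBase γ ⁻¹' (U₁ ∩ O ∩ Z) =
      Points.map g '' (Points.schemeHomeo T '' Set.univ) := by
    ext x
    constructor
    · rintro ⟨⟨hx1, hx2⟩, hx3⟩
      obtain ⟨a, ha⟩ : toBase γ x ∈ Set.range i₀ := hi₀ ▸ ⟨hx2, hx3⟩
      have haU : a ∈ U := show a ∈ (U : Set ↥(Spec (CommRingCat.of A))) by
        rw [← hUU₁]; show i₀ a ∈ U₁; rw [ha]; exact hx1
      refine ⟨_, ⟨⟨a, haU⟩, trivial, rfl⟩, injective_map_of_mono γ
        ((Points.schemeHomeo V).symm.injective ?_)⟩
      change toBase γ _ = toBase γ x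
      rw [toBase_map hg, ← ha]
      rfl
    · rintro ⟨_, ⟨a, -, rfl⟩, rfl⟩
      change toBase γ _ ∈ U₁ ∩ O ∩ Z
      rw [toBase_map hg]
      let a' : ↥(Spec (CommRingCat.of A)) := U.ι a
      have ha : i₀ a' ∈ (O : Set ↥V.left) ∩ Z := hi₀ ▸ Set.mem_range_self _
      exact ⟨⟨show a' ∈ i₀ ⁻¹' U₁ from hUU₁ ▸ a.2, ha.1⟩, ha.2⟩
  rw [hpre]
  exact (isCompact_univ.image (Points.schemeHomeo T).continuous).image (Points.continuous_map g)

/-- A monomorphism to a locally Noetherian scheme with spreading lifts is quasi-compact. -/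
theorem isQuasiCompactMor_of_spreads [IsLocallyNoetherian V.left] {F : Sp S}
    (hF : IsAlgSpace F) {γ : F ⟶ (yon S).obj V} [Mono γ] (hγ : LocP @LocallyOfFinitePresentation γ)
    (h : SpreadsLifts γ) : AlgSp.IsQuasiCompactMor γ := by
  refine Lib.AlgSpMor.QC.isQuasiCompactMor_of_affine hF (IsAlgSpace.yon_obj V).diag
    fun Z hZ g P fst snd sq => ?_
  obtain ⟨k, rfl⟩ := (yon S).map_surjective g
  obtain ⟨s, hs, hsW⟩ := exists_finite_affine_cover (isCompact_range k.left.continuous)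
  let W : V.left.Opens := ⨆ O ∈ s, (O : V.left.affineOpens).1
  have hWc : IsCompact (W : Set ↥V.left) := by
    simp only [W, Opens.coe_iSup]
    exact hs.isCompact_biUnion fun O _ => O.2.isCompact
  have : CompactSpace ↥W := isCompact_iff_compactSpace.1 hWc
  let Wo : Over S := Over.mk (W.ι ≫ V.hom)
  let j : Wo ⟶ V := Over.homMk W.ι rfl
  have : IsLocallyNoetherian Wo.left := inferInstanceAs (IsLocallyNoetherian W.toScheme)
  have : CompactSpace ↥Wo.left := inferInstanceAs (CompactSpace ↥W)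
  have sqW := IsPullback.of_hasPullback γ ((yon S).map j)
  have hGW := isAlgSpace_of_isPullback sqW (IsAlgSpace.yon_obj V).diag hF (IsAlgSpace.yon_obj Wo)
  have := compactSpace_of_spreads hGW
    (Lib.AlgSpMor.LocP.locP_of_isPullback Lib.SourceDescent.Scheme.locallyOfFinitePresentation
      hF (IsAlgSpace.yon_obj V) (IsAlgSpace.yon_obj Wo) sqW hγ)
    (fun A _ _ sA i D hD hp => by
      obtain ⟨U, hU, g, hg⟩ := h A sA (i ≫ j) D hD fun p hpD => by
        obtain ⟨g, hg⟩ := hp p hpD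
        exact ⟨g ≫ pullback.fst γ _, by simp [pullback.condition, reassoc_of% hg]⟩
      exact ⟨U, hU, sqW.lift g _ (hg.trans (by simp)), sqW.lift_snd _ _ _⟩)
  have hle : Set.range k.left ⊆ Set.range W.ι := by
    simpa [W, Scheme.Opens.range_ι] using hsW
  let k' : Z ⟶ Wo := Over.homMk (IsOpenImmersion.lift W.ι k.left hle) (by
    change IsOpenImmersion.lift W.ι k.left hle ≫ W.ι ≫ V.hom = Z.hom
    rw [IsOpenImmersion.lift_fac_assoc, Over.w k])
  have hk' : k' ≫ j = k := Over.OverMorphism.ext (IsOpenImmersion.lift_fac _ _ _)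
  have hw : fst ≫ γ = (snd ≫ (yon S).map k') ≫ (yon S).map j := by
    rw [Category.assoc, ← Functor.map_comp, hk', sq.w]
  have sq₂ : IsPullback (sqW.lift fst (snd ≫ (yon S).map k') hw) snd (pullback.snd γ _)
      ((yon S).map k') :=
    IsPullback.of_right (by simpa [← Functor.map_comp, hk'] using sq) (sqW.lift_snd _ _ _) sqW
  have : QuasiSeparatedSpace ↥Wo.left := inferInstance
  have : QuasiCompact k'.left := inferInstance
  have hrep : RepWith @QuasiCompact (sqW.lift fst (snd ≫ (yon S).map k') hw) :=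
    repWith_baseChange sq₂.flip ((AlgSp.repWith_yon_map_iff _ k').2 this)
  exact Lib.AlgSpMor.QC.compactSpace_of_repWith hrep hGW
where
  exists_finite_affine_cover {X : Scheme.{u}} {K : Set ↥X} (hK : IsCompact K) :
      ∃ s : Set X.affineOpens, s.Finite ∧ K ⊆ ⋃ O ∈ s, (O.1 : Set ↥X) := by
    obtain ⟨s, hs⟩ := hK.elim_finite_subcover (fun O : X.affineOpens => (O.1 : Set ↥X))
      (fun O => O.1.2) fun x _ => by
        obtain ⟨O, hO, hx, -⟩ := exists_isAffineOpen_mem_and_subset (U := ⊤) (Set.mem_univ x)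
        exact Set.mem_iUnion.2 ⟨⟨O, hO⟩, hx⟩
    exact ⟨s, s.finite_toSet, hs⟩

end Groth.Agent.H14.QCCrit
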